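import Groth.Statements.S11387
import Groth.Agent.Lef.K184.FormalHH
import Groth.Agent.Dual.H367.IdMul
import Groth.Agent.CohDim.K685.DelH1
import Groth.Agent.Fga.HShift
import Groth.Agent.Fga.TensorList
import Groth.Agent.CurvesC.CurveNum
import Groth.Agent.Curves.K830.CurveStalk
import Groth.Agent.VarietyB.DimTop
import Groth.Agent.FormalB.PnCoh
import Groth.Agent.Smoothlim.ModKer
import Groth.Agent.Ega3B.SectExact
import Groth.Agent.S10934

/-!
# `H^a(P^n, I(-c)) = 0` for `c ≫ 0` and `a ≤ s`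

`Y = V(I)` a Cohen–Macaulay closed subscheme of `P^n` all of whose irreducible components have dimension `s < n`.
-/

set_option autoImplicit false
universe u
open CategoryTheory CategoryTheory.Limits AlgebraicGeometry TopologicalSpace CohDim
open Groth.Agent Groth.Agent.CurvesC

namespace K616.NegVan

/-- transport of "all irreducible components have dimension `d`" along a homeomorphism -/
theorem forall_dim_of_homeomorph {A B : Type*} [TopologicalSpace A] [TopologicalSpace B] (e : A ≃ₜ B)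
    (d : WithBot ℕ∞) (h : ∀ Z ∈ irreducibleComponents A, topologicalKrullDim Z = d) :
    ∀ Z ∈ irreducibleComponents B, topologicalKrullDim Z = d := by
  intro Z hZ
  have h1 : e ⁻¹' Z ∈ irreducibleComponents A := by
    apply preimage_mem_irreducibleComponents hZ e.isOpenEmbedding
    rw [e.surjective.range_eq, Set.inter_univ]
    exact hZ.1.nonempty
  rw [← h _ h1]
  have h2 : e '' (e ⁻¹' Z) = Z := Set.image_preimage_eq Z e.surjective
  have e1 : (e ⁻¹' Z : Set A) ≃ₜ (e '' (e ⁻¹' Z) : Set B) := e.image _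
  rw [h2] at e1
  exact (e1.isHomeomorph.topologicalKrullDim_eq _).symm

theorem h0_injective {X : Scheme.{u}} {M N : X.Modules} (f : M ⟶ N) [Mono f]
    (h : Subsingleton (Coh.HH X N 0)) : Subsingleton (Coh.HH X M 0) := by
  have h1 : Subsingleton Γ(N, ⊤) := (Ega3B.SectExact.secEquiv N).symm.toEquiv.subsingleton
  have h2 : Function.Injective (f.app ⊤) := Smoothlim.ModKer.app_injective_of_mono f ⊤
  have h5 : Subsingleton Γ(M, ⊤) := h2.subsingleton
  exact (Ega3B.SectExact.secEquiv M).toEquiv.subsingleton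

theorem negVan (k : Type u) [Field k] (n : ℕ)
    (𝓘 : (CohB1.ProjSpace n k).IdealSheafData)
    (hCM : ∀ y : 𝓘.subscheme, LocCoh.IsCohenMacaulayLocalRing (𝓘.subscheme.presheaf.stalk y))
    (s : ℕ) (hs : s + 1 ≤ n)
    (hequi : ∀ Z ∈ irreducibleComponents (𝓘.support : Set (CohB1.ProjSpace n k)), topologicalKrullDim Z = s)
    (hne : (𝓘.support : Set (CohB1.ProjSpace n k)).Nonempty) :
    ∃ c₀ : ℕ, ∀ c : ℕ, c₀ ≤ c → ∀ a : ℕ, a ≤ s →
      Subsingleton (Coh.HH (CohB1.ProjSpace n k)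
        ((Dual3.idealMul 𝓘).obj (Twist.twistProjSpace n k (-(c : ℤ)))) a) := by
  let : 𝓘.subscheme.Over (Spec (CommRingCat.of k)) := ⟨𝓘.subschemeι ≫ CohB1.ProjSpace.toSpec n k⟩
  have hlft : LocallyOfFiniteType (𝓘.subscheme ↘ (Spec (CommRingCat.of k))) :=
    inferInstanceAs (LocallyOfFiniteType (𝓘.subschemeι ≫ CohB1.ProjSpace.toSpec n k))
  have hr : Set.range 𝓘.subschemeι = (𝓘.support : Set (CohB1.ProjSpace n k)) := 𝓘.range_subschemeι
  let e : 𝓘.subscheme ≃ₜ (𝓘.support : Set (CohB1.ProjSpace n k)) :=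
    𝓘.subschemeι.isEmbedding.toHomeomorph.trans (Homeomorph.setCongr hr)
  have hcomp := forall_dim_of_homeomorph e.symm s hequi
  have hdim : topologicalKrullDim 𝓘.subscheme = s := by
    rw [Groth.Agent.VarietyB.DimTop.topologicalKrullDim_eq_iSup_irreducibleComponents]
    refine le_antisymm (iSup_le fun Z => (hcomp Z.1 Z.2).le) ?_
    obtain ⟨x, hx⟩ := hne
    have h1 := hcomp _ (irreducibleComponent_mem_irreducibleComponents (e.symm ⟨x, hx⟩))
    rw [← h1]
    exact le_iSup (fun Z : irreducibleComponents 𝓘.subscheme => topologicalKrullDim Z.1)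
      ⟨_, irreducibleComponent_mem_irreducibleComponents (e.symm ⟨x, hx⟩)⟩
  obtain ⟨q₀, hq⟩ := (Groth.Agent.S10934.result k n s 𝓘.subschemeι hdim).1
    (fun x hx => ⟨hCM x, K830.CurveStalk.ringKrullDim_stalk_eq k 𝓘.subscheme s hcomp x hx⟩)
    (Coh.structureModule 𝓘.subscheme) (K271.PnSubDepth.isFinLocFree_structureModule _)
  refine ⟨q₀ + 1, fun c hc a ha => ?_⟩
  have h3 : ∀ j < s, Subsingleton (Coh.HH (CohB1.ProjSpace n k)
      (K685.DelH1.ses 𝓘 (Twist.twistProjSpace n k (-(c : ℤ)))).X₃ j) := by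
    intro j hj
    have h4 := hq c (by omega) j hj
    have h5 := Fga.HShift.subsingleton_of_iso (Fga.TensorList.unitTensor _) j h4
    exact (CurveNum.hhPush 𝓘.subschemeι _ j).symm.toEquiv.subsingleton
  have h2 : ∀ j ≤ s, Subsingleton (Coh.HH (CohB1.ProjSpace n k)
      (K685.DelH1.ses 𝓘 (Twist.twistProjSpace n k (-(c : ℤ)))).X₂ j) := fun j hj =>
    FormalB.PnCoh.vanish n k (-(c : ℤ)) j (fun h => by omega) (fun h => by omega)
  have hS := K685.DelH1.shortExact_ses 𝓘 (Twist.twistProjSpace n k (-(c : ℤ)))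
  cases a with
  | zero =>
    have hm : Mono (Dual3.idealMulι 𝓘 (Twist.twistProjSpace n k (-(c : ℤ)))) := Dual3.mono_idealMulι 𝓘 _
    exact h0_injective (Dual3.idealMulι 𝓘 (Twist.twistProjSpace n k (-(c : ℤ)))) (h2 0 (Nat.zero_le _))
  | succ b => exact Fga.HShift.subsingleton₁ hS b (h3 b (by omega)) (h2 (b + 1) ha)

end K616.NegVan
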